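import Groth.Agent.Lib.AntiAff20.Kernel
import Groth.Agent.Lib.AffGrp19.Main
import Groth.Agent.Lib.SubGrp13.Basic

/-!
# The kernel of the affinization is the largest anti-affine subgroup
-/

universe u

set_option autoImplicit false
set_option linter.style.haveILetI false
set_option backward.isDefEq.respectTransparency.types false

open CategoryTheory CategoryTheory.Limits MonoidalCategory CartesianMonoidalCategory MonObj AlgebraicGeometry
open Groth.Agent.AffGrp19

noncomputable section

namespace Groth.Agent.AntiAffMin19

variable {k : Type u} [Field k]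

/-- An affine scheme over a field without non-constant functions is the base. -/
theorem isIso_hom_of_antiAffine {M : Over (Spec (CommRingCat.of k))} [IsAffine M.left]
    (hM : Function.Bijective (structRing M).hom) : IsIso M.hom := by
  haveI : QuasiCompact M.hom := inferInstance
  haveI : QuasiSeparated M.hom := inferInstance
  obtain ⟨w, hw⟩ := exists_const hM (𝟙 M)
  refine ⟨w.left, ?_, Over.w w⟩
  exact (congrArg CommaMorphism.left hw).symm

theorem bijective_of_iso {M N : Over (Spec (CommRingCat.of k))} (e : M ⟶ N) [IsIso e]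
    (hM : Function.Bijective (structRing M).hom) : Function.Bijective (structRing N).hom := by
  haveI : IsIso e.left := inferInstanceAs (IsIso ((Over.forget _).map e))
  haveI : IsIso e.left.appTop := inferInstanceAs (IsIso (Scheme.Γ.map e.left.op))
  haveI : IsIso (structRing M) := (ConcreteCategory.isIso_iff_bijective _).mpr hM
  have he : structRing N ≫ e.left.appTop = structRing M := by
    rw [Category.assoc, ← Scheme.Hom.comp_appTop, Over.w e]
  haveI : IsIso (structRing N ≫ e.left.appTop) := by rw [he]; infer_instance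
  haveI : IsIso (structRing N) := IsIso.of_isIso_comp_right _ e.left.appTop
  exact (ConcreteCategory.isIso_iff_bijective _).mp inferInstance

variable (G : Over (Spec (CommRingCat.of k))) [GrpObj G] [LocallyOfFiniteType G.hom] [QuasiCompact G.hom]
  [QuasiSeparated G.hom]

/-- The kernel of the affinization as a subgroup. -/
theorem exists_kernel_grp :
    ∃ _ : GrpObj (pullback (toAff G) η[aff G]), IsMonHom (pullback.fst (toAff G) η[aff G]) := by
  set p := toAff G
  set i : pullback p η[aff G] ⟶ G := pullback.fst p η[aff G]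
  have hi : i ≫ p = 1 := by
    rw [Hom.one_def, pullback.condition]
    congr 1
    exact toUnit_unique _ _
  have hlift : ∀ {T : Over (Spec (CommRingCat.of k))} (g : T ⟶ G), g ≫ p = 1 →
      ∃ n : T ⟶ pullback p η[aff G], n ≫ i = g :=
    fun g hg => ⟨pullback.lift g (toUnit _) (hg.trans Hom.one_def), pullback.lift_fst _ _ _⟩
  obtain ⟨m, hm⟩ := hlift ((fst _ _ ≫ i) * (snd _ _ ≫ i) : pullback p η[aff G] ⊗ pullback p η[aff G] ⟶ G)
    (by rw [MonObj.mul_comp, Category.assoc, Category.assoc, hi, MonObj.comp_one, MonObj.comp_one, _root_.one_mul])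
  obtain ⟨e, he⟩ := hlift (1 : 𝟙_ (Over (Spec (CommRingCat.of k))) ⟶ G) (MonObj.one_comp p)
  obtain ⟨v, hv⟩ := hlift i⁻¹ (by rw [GrpObj.inv_comp, hi, inv_one])
  haveI : IsSplitMono η[aff G] := ⟨⟨⟨toUnit _, toUnit_unique _ _⟩⟩⟩
  haveI : Mono i := inferInstance
  exact ⟨SubGrp13.grpObjOfMono i hm he hv, SubGrp13.isMonHom_grpObjOfMono i hm he hv⟩

theorem isClosedImmersion_kernel : IsClosedImmersion (pullback.fst (toAff G) η[aff G]).left := by
  haveI : IsClosedImmersion η[aff G].left :=
    isClosedImmersion_of_comp_eq_id (aff G).hom _ (Over.w η[aff G])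
  exact MorphismProperty.of_isPullback
    ((IsPullback.of_hasPullback (toAff G) η[aff G]).map (Over.forget _)).flip ‹IsClosedImmersion η[aff G].left›

/-- A group with trivial anti-affine kernel is affine. -/
theorem isAffine_of_trivial_kernel (h : IsIso (pullback (toAff G) η[aff G]).hom) : IsAffine G.left := by
  haveI : Mono (toAff G) := ⟨fun {T} a b hab => by
    haveI := h
    have hd : (a⁻¹ * b) ≫ toAff G = 1 := by rw [MonObj.mul_comp, GrpObj.inv_comp, hab, inv_mul_cancel]
    let n := pullback.lift (a⁻¹ * b) (toUnit _) (hd.trans Hom.one_def)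
    let n₁ := pullback.lift (1 : T ⟶ G) (toUnit _) ((MonObj.one_comp (toAff G)).trans Hom.one_def)
    have hn : n = n₁ := by
      apply Over.OverMorphism.ext
      rw [← cancel_mono (pullback (toAff G) η[aff G]).hom, Over.w, Over.w]
    have h1 : a⁻¹ * b = 1 := by
      rw [← pullback.lift_fst (a⁻¹ * b) (toUnit _) (hd.trans Hom.one_def)]
      show n ≫ _ = _
      rw [hn, pullback.lift_fst]
    exact (inv_mul_eq_one.mp h1)⟩
  exact isAffine_of_mono_toAff G

/-- A homomorphism from a group without non-constant functions factors through the kernel. -/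
theorem exists_factor {M : Over (Spec (CommRingCat.of k))} [GrpObj M] [QuasiCompact M.hom]
    [QuasiSeparated M.hom] (hM : Function.Bijective (structRing M).hom) (j : M ⟶ G) [IsMonHom j] :
    ∃ g : M ⟶ pullback (toAff G) η[aff G], g ≫ pullback.fst (toAff G) η[aff G] = j := by
  obtain ⟨w, hw⟩ := exists_const hM (j ≫ toAff G)
  have h1 : w = η[aff G] := by
    rw [show w = η[M] ≫ toUnit M ≫ w by rw [← Category.assoc, toUnit_unique (η[M] ≫ toUnit M) (𝟙 _), Category.id_comp],
      ← hw, IsMonHom.one_hom (f := j ≫ toAff G)]
  exact ⟨pullback.lift j (toUnit M) (by rw [hw, h1]), pullback.lift_fst _ _ _⟩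

end Groth.Agent.AntiAffMin19
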