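import Groth.Agent.Lib.AntiAff20.Flat
import Groth.Agent.Lib.DivSub15.Basic
import Groth.Agent.Lib.AbRigid.Basic

/-!
# Schematically dominant homomorphisms of algebraic groups are faithfully flat
-/

universe u

set_option autoImplicit false
set_option linter.style.haveILetI false
set_option backward.isDefEq.respectTransparency.types false

open CategoryTheory CategoryTheory.Limits MonoidalCategory CartesianMonoidalCategory MonObj AlgebraicGeometry
open Groth.Agent.AntiAff20

noncomputable section

namespace Groth.Agent.AntiAffMin19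

variable {k : Type u} [Field k]

/-- A schematically dominant homomorphism of algebraic groups is faithfully flat. -/
theorem flat_of_schDominant {G H : Over (Spec (CommRingCat.of k))} [GrpObj G] [GrpObj H]
    [LocallyOfFiniteType G.hom] [QuasiCompact G.hom] [LocallyOfFiniteType H.hom]
    (f : G ⟶ H) [IsMonHom f] [IsSchemeTheoreticallyDominant f.left] : Surjective f.left ∧ Flat f.left := by
  haveI : QuasiCompact f.left := AlgGrpBasic19.quasiCompact_left f
  haveI : IsDominant f.left := inferInstance
  have hsurj := GrpGen20.surjective_of_dominant f f.left.denseRange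
  refine ⟨hsurj, ?_⟩
  haveI : IsSeparated H.hom := AbRigid.isSeparated_of_grpObj H
  haveI : IsSeparated G.hom := AbRigid.isSeparated_of_grpObj G
  haveI : IsNoetherianRing (CommRingCat.of k) := inferInstanceAs (IsNoetherianRing k)
  haveI : IsLocallyNoetherian H.left := LocallyOfFiniteType.isLocallyNoetherian H.hom
  haveI : CompactSpace G.left := QuasiCompact.compactSpace_of_compactSpace G.hom
  -- an affine cover
  let 𝒰 := G.left.affineCover.finiteSubcover
  haveI : ∀ i, IsAffine (𝒰.X i) := fun i => inferInstanceAs (IsAffine (G.left.affineCover.X _))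
  let W : Scheme.{u} := ∐ 𝒰.X
  let p : W ⟶ G.left := Sigma.desc 𝒰.f
  haveI : Flat p := IsZariskiLocalAtSource.sigmaDesc fun i => inferInstance
  haveI : Surjective p := ⟨fun x => by
    obtain ⟨i, y, hy⟩ := 𝒰.exists_eq x
    refine ⟨Sigma.ι 𝒰.X i y, ?_⟩
    rw [← Scheme.Hom.comp_apply, Sigma.ι_desc]
    exact hy⟩
  let g : W ⟶ H.left := p ≫ f.left
  haveI : QuasiCompact g := inferInstance
  haveI : QuasiCompact p := by
    haveI : QuasiCompact (p ≫ G.hom) := inferInstance
    exact QuasiCompact.of_comp p G.hom
  haveI : IsSchemeTheoreticallyDominant p := ⟨DivSub15.ker_eq_bot_of_cover p⟩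
  haveI : IsAffineHom g := by
    haveI : IsAffineHom (g ≫ H.hom) := inferInstance
    exact IsAffineHom.of_comp g H.hom
  have hgg : Flat (pullback.fst g g) := by
    haveI h0 := flat_kernelPair f
    haveI h1 : Flat (pullback.fst g f.left) := flat_fst_comp_left p f.left f.left
    exact flat_fst_comp_right g f.left p
  -- a maximal point of the target
  obtain ⟨M, hM, -⟩ := FlatH4.exists_isMaxPt_specializes (η[H].left (IsLocalRing.closedPoint k))
  set R := H.left.presheaf.stalk M
  let φR : Spec R ⟶ H.left := H.left.fromSpecStalk M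
  haveI : Flat φR := AbRigid.flat_fromSpecStalk M
  haveI : Subsingleton (PrimeSpectrum R) := ⟨fun p q => by
    have h : ∀ r : Spec R, φR r = M := fun r => by
      have hr : φR r ∈ Set.range φR := ⟨r, rfl⟩
      rw [Scheme.range_fromSpecStalk] at hr
      exact hM _ hr
    exact φR.isEmbedding.injective ((h p).trans (h q).symm)⟩
  haveI : Ring.KrullDimLE 0 R := Ring.krullDimLE_zero_iff.2 fun P hP => by
    obtain ⟨m, hm, hle⟩ := Ideal.exists_le_maximal P hP.ne_top
    have e : (⟨P, hP⟩ : PrimeSpectrum R) = ⟨m, hm.isPrime⟩ := Subsingleton.elim _ _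
    obtain rfl : P = m := congrArg PrimeSpectrum.asIdeal e
    exact hm
  haveI : IsArtinianRing R := isArtinianRing_iff_isNoetherianRing_krullDimLE_zero.2 ⟨inferInstance, inferInstance⟩
  haveI : IsAffine (pullback g φR) := isAffine_of_isAffineHom (pullback.snd g φR)
  let g' := pullback.snd g φR
  haveI : IsSchemeTheoreticallyDominant g' := inferInstance
  haveI : QuasiCompact g' := inferInstance
  have hg' : Flat (pullback.fst g' g') := by
    haveI := hgg
    let j := pullback.fst g φR
    haveI : Flat (pullback.fst (j ≫ g) g) := flat_fst_comp_left j g g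
    haveI : Flat (pullback.snd g (g' ≫ φR)) := by
      rw [show g' ≫ φR = j ≫ g from pullback.condition.symm, ← pullbackSymmetry_hom_comp_fst]
      infer_instance
    haveI : Flat (pullback.snd g' g') := by
      rw [← pullbackLeftPullbackSndIso_hom_snd g φR g']
      infer_instance
    exact flat_fst_of_snd g'
  have hflat : Flat g' := by
    let e := (pullback g φR).isoSpec
    obtain ⟨φ, hφ⟩ := Spec.map_surjective (e.inv ≫ g')
    haveI : IsSchemeTheoreticallyDominant (e.inv ≫ g') := inferInstance
    haveI : IsSchemeTheoreticallyDominant (Spec.map φ) := hφ ▸ inferInstance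
    haveI : QuasiCompact (Spec.map φ) := inferInstance
    have hinjφ : Function.Injective φ := by
      have h1 := (Spec.map φ).app_injective ⊤
      have h2 : φ ≫ (Scheme.ΓSpecIso _).inv = (Scheme.ΓSpecIso _).inv ≫ (Spec.map φ).appTop :=
        Scheme.ΓSpecIso_inv_naturality φ
      intro a b hab
      have h3 := congrArg (Scheme.ΓSpecIso _).inv hab
      rw [← CommRingCat.comp_apply, ← CommRingCat.comp_apply, h2] at h3
      exact (ConcreteCategory.bijective_of_isIso (Scheme.ΓSpecIso R).inv).1 (h1 h3)
    have hfl : Flat (pullback.fst (Spec.map φ) (Spec.map φ)) := by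
      haveI := hg'
      let m : pullback (Spec.map φ) (Spec.map φ) ⟶ pullback g' g' :=
        pullback.map _ _ _ _ e.inv e.inv (𝟙 _) (by simp [hφ]) (by simp [hφ])
      have hm : m ≫ pullback.fst g' g' ≫ e.hom = pullback.fst _ _ := by
        simp only [m, pullback.map, pullback.lift_fst_assoc, Category.assoc, Iso.inv_hom_id, Category.comp_id]
      rw [← hm]
      infer_instance
    haveI := flat_of_injective_of_flat_self φ hinjφ hfl
    have : e.hom ≫ Spec.map φ = g' := by rw [hφ, e.hom_inv_id_assoc]
    rw [← this]
    infer_instance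
  -- a point over the maximal point
  obtain ⟨t, ht⟩ := f.left.surjective M
  obtain ⟨w, rfl⟩ := p.surjective t
  obtain ⟨z, hz, -⟩ := Scheme.Pullback.exists_preimage_pullback (f := g) (g := φR) w
    (IsLocalRing.closedPoint R) (by
      rw [show g w = M from ht]
      exact Scheme.fromSpecStalk_closedPoint.symm)
  let j := pullback.fst g φR ≫ p
  haveI : Flat (pullback.fst g φR) := inferInstance
  haveI : Flat (j ≫ f.left) := by
    have : j ≫ f.left = g' ≫ φR := (Category.assoc _ _ _).trans pullback.condition
    rw [this]
    infer_instance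
  refine AbRigid.flat_of_flat_stalkMap G H f (j z) ?_
  exact H12.flat_stalkMap_of_comp j f.left z (Flat.stalkMap j z) (Flat.stalkMap (j ≫ f.left) z)

end Groth.Agent.AntiAffMin19
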