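import Groth.Agent.Lib.AntiAffMin19.Quotient
import Groth.Agent.Lib.AntiAffMin19.Flat
import Groth.Agent.Lib.AbRigid.FlatFibre
import Groth.Agent.Lib.AbRigid.SmoothGI
import Groth.Agent.S3293
import Mathlib.AlgebraicGeometry.Morphisms.Proper

/-!
# The anti-affine part supplements an affine normal subgroup with proper quotient
-/

universe u

set_option autoImplicit false
set_option linter.style.haveILetI false
set_option backward.isDefEq.respectTransparency false
set_option maxHeartbeats 1000000

open CategoryTheory CategoryTheory.Limits MonoidalCategory CartesianMonoidalCategory MonObj AlgebraicGeometry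
open Groth.Agent.AffGrp19

noncomputable section

namespace Groth.Agent.AntiAffMin19

variable {k : Type u} [Field k]

/-- The preimage of a subgroup is a subgroup. -/
theorem exists_pullback_grp {X Y Z : Over (Spec (CommRingCat.of k))} [GrpObj X] [GrpObj Y] [GrpObj Z]
    (a : X ⟶ Z) [IsMonHom a] (b : Y ⟶ Z) [IsMonHom b] [Mono b] :
    ∃ _ : GrpObj (pullback a b), IsMonHom (pullback.fst a b) := by
  set incl := pullback.fst a b
  have hcl : ∀ {T : Over (Spec (CommRingCat.of k))} (x : T ⟶ X) (y : T ⟶ Y), x ≫ a = y ≫ b →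
      ∃ n : T ⟶ pullback a b, n ≫ incl = x := fun x y h => ⟨pullback.lift x y h, pullback.lift_fst _ _ _⟩
  obtain ⟨m, hm⟩ := hcl ((fst (pullback a b) (pullback a b) ≫ incl) * (snd _ _ ≫ incl))
    ((fst _ _ ≫ pullback.snd a b) * (snd _ _ ≫ pullback.snd a b))
    (by simp only [MonObj.mul_comp, Category.assoc, incl, pullback.condition])
  obtain ⟨e, he⟩ := hcl (1 : 𝟙_ (Over (Spec (CommRingCat.of k))) ⟶ X) 1
    (by rw [MonObj.one_comp, MonObj.one_comp])
  obtain ⟨v, hv⟩ := hcl incl⁻¹ (pullback.snd a b)⁻¹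
    (by simp only [GrpObj.inv_comp, incl, pullback.condition])
  exact ⟨SubGrp13.grpObjOfMono incl hm he hv, SubGrp13.isMonHom_grpObjOfMono incl hm he hv⟩

theorem isClosedImmersion_pullback_fst {X Y Z : Over (Spec (CommRingCat.of k))} (a : X ⟶ Z) (b : Y ⟶ Z)
    [IsClosedImmersion b.left] : IsClosedImmersion (pullback.fst a b).left :=
  MorphismProperty.of_isPullback
    ((IsPullback.of_hasPullback a b).map (Over.forget (Spec (CommRingCat.of k)))).flip ‹IsClosedImmersion b.left›

theorem isClosedImmersion_eta (A : Over (Spec (CommRingCat.of k))) [GrpObj A] : IsClosedImmersion η[A].left := by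
  haveI := AbRigid.isSeparated_of_grpObj A
  exact isClosedImmersion_of_comp_eq_id A.hom _ (Over.w η[A])

/-- The kernel of a homomorphism as a subgroup. -/
theorem exists_kernel_of {X Y : Over (Spec (CommRingCat.of k))} [GrpObj X] [GrpObj Y] (f : X ⟶ Y) [IsMonHom f] :
    ∃ _ : GrpObj (pullback f η[Y]), IsMonHom (pullback.fst f η[Y]) := by
  haveI : IsSplitMono η[Y] := ⟨⟨⟨toUnit _, toUnit_unique _ _⟩⟩⟩
  set incl := pullback.fst f η[Y]
  have hι : incl ≫ f = 1 := by
    rw [Hom.one_def, pullback.condition]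
    congr 1
    exact toUnit_unique _ _
  have hcl : ∀ {T : Over (Spec (CommRingCat.of k))} (x : T ⟶ X), x ≫ f = 1 →
      ∃ n : T ⟶ pullback f η[Y], n ≫ incl = x :=
    fun x h => ⟨pullback.lift x (toUnit _) (h.trans Hom.one_def), pullback.lift_fst _ _ _⟩
  obtain ⟨m, hm⟩ := hcl ((fst (pullback f η[Y]) (pullback f η[Y]) ≫ incl) * (snd _ _ ≫ incl))
    (by rw [MonObj.mul_comp, Category.assoc, Category.assoc, hι, MonObj.comp_one, MonObj.comp_one, _root_.one_mul])
  obtain ⟨e, he⟩ := hcl (1 : 𝟙_ (Over (Spec (CommRingCat.of k))) ⟶ X) (MonObj.one_comp f)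
  obtain ⟨v, hv⟩ := hcl incl⁻¹ (by rw [GrpObj.inv_comp, hι, inv_one])
  exact ⟨SubGrp13.grpObjOfMono incl hm he hv, SubGrp13.isMonHom_grpObjOfMono incl hm he hv⟩

theorem isKernel_pullback {X Y : Over (Spec (CommRingCat.of k))} [GrpObj Y] (f : X ⟶ Y) :
    AlgGrp.IsKernel (pullback.fst f η[Y]) f := by
  have e : toUnit (pullback f η[Y]) = pullback.snd f η[Y] := toUnit_unique _ _
  show IsPullback _ _ _ _
  rw [e]
  exact IsPullback.of_hasPullback f η[Y]

theorem isNormalHom_kernel {X Y : Over (Spec (CommRingCat.of k))} [GrpObj X] [GrpObj Y] (f : X ⟶ Y) [IsMonHom f]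
    [GrpObj (pullback f η[Y])] :
    AlgGrp.IsNormalHom (pullback.fst f η[Y]) := fun T g n => by
  have hn : (n ≫ pullback.fst f η[Y]) ≫ f = 1 := by
    rw [Category.assoc, pullback.condition, toUnit_unique (pullback.snd f η[Y]) (toUnit _), ← Hom.one_def,
      MonObj.comp_one]
  have h : (g * (n ≫ pullback.fst f η[Y]) * g⁻¹) ≫ f = 1 := by
    rw [MonObj.mul_comp, MonObj.mul_comp, GrpObj.inv_comp, hn, _root_.mul_one, mul_inv_cancel]
  exact ⟨pullback.lift _ (toUnit _) (h.trans Hom.one_def), (pullback.lift_fst _ _ _).symm⟩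

/-- The affinization of a connected proper group is a single point. -/
theorem subsingleton_aff (A : Over (Spec (CommRingCat.of k))) [GrpObj A] [IsProper A.hom]
    [ConnectedSpace A.left] : Subsingleton (aff A).left := by
  obtain ⟨hs, -⟩ := AntiAff20.surjective_flat_toAff A
  haveI := hs
  haveI := lft_aff A
  haveI : CompactSpace A.left := QuasiCompact.compactSpace_of_compactSpace A.hom
  haveI : IsAffineHom (aff A).hom := inferInstance
  haveI : UniversallyClosed (aff A).hom := by
    haveI : UniversallyClosed ((toAff A).left ≫ (aff A).hom) := by rw [Over.w]; infer_instance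
    exact UniversallyClosed.of_comp_surjective (toAff A).left (aff A).hom
  haveI : IsProper (aff A).hom := { }
  haveI : IsFinite (aff A).hom := by
    rw [show (@IsFinite : MorphismProperty Scheme.{u}) = (@IsProper ⊓ @IsAffineHom : MorphismProperty _) from
      IsFinite.eq_isProper_inf_isAffineHom]
    exact ⟨inferInstance, inferInstance⟩
  haveI : LocallyQuasiFinite (aff A).hom := inferInstance
  haveI : DiscreteTopology (aff A).left := by
    have h := (aff A).hom.isDiscrete_preimage_singleton (IsLocalRing.closedPoint k)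
    rw [show (aff A).hom ⁻¹' {IsLocalRing.closedPoint k} = Set.univ from
      Set.eq_univ_of_forall fun x => Subsingleton.elim (α := PrimeSpectrum k) _ _, isDiscrete_univ_iff] at h
    exact h
  haveI : ConnectedSpace (aff A).left :=
    (toAff A).left.surjective.connectedSpace (toAff A).left.continuous
  exact PreconnectedSpace.trivial_of_discrete

section

variable {G N A M : Over (Spec (CommRingCat.of k))} [GrpObj G] [GrpObj N] [GrpObj A] [GrpObj M]
  [LocallyOfFiniteType G.hom] [QuasiCompact G.hom] [IsProper A.hom]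
  [LocallyOfFiniteType M.hom] [QuasiCompact M.hom]
  (i : N ⟶ G) [IsMonHom i] [IsClosedImmersion i.left]
  (q : G ⟶ A) [IsMonHom q] [Surjective q.left] [Flat q.left] (hq : AlgGrp.IsKernel i q)
  (j : M ⟶ G) [IsMonHom j] [IsClosedImmersion j.left]

include hq

/-- If the anti-affine part surjects onto the proper quotient, it supplements the kernel. -/
theorem surjective_mul (hs : Surjective (j ≫ q).left) : Surjective ((i ⊗ₘ j) ≫ μ[G]).left := by
  let g := pullback.snd (j ≫ q) q
  let m := pullback.fst (j ≫ q) q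
  have h1 : (g * (m ≫ j)⁻¹) ≫ q = toUnit _ ≫ η[A] := by
    rw [MonObj.mul_comp, GrpObj.inv_comp, Category.assoc, pullback.condition, mul_inv_cancel, Hom.one_def]
  let n := hq.lift (g * (m ≫ j)⁻¹) (toUnit _) h1
  have hn : n ≫ i = g * (m ≫ j)⁻¹ := hq.lift_fst _ _ _
  have hfac : lift n m ≫ (i ⊗ₘ j) ≫ μ[G] = g := by
    rw [lift_map_assoc, ← Hom.mul_def, hn, inv_mul_cancel_right]
  haveI : Surjective ((Over.forget (Spec (CommRingCat.of k))).map (j ≫ q)) := hs
  haveI : Surjective g.left := MorphismProperty.of_isPullback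
    ((IsPullback.of_hasPullback (j ≫ q) q).map (Over.forget (Spec (CommRingCat.of k)))) ‹_›
  haveI : Surjective ((lift n m).left ≫ ((i ⊗ₘ j) ≫ μ[G]).left) := by
    rw [← Over.comp_left, hfac]; infer_instance
  exact Surjective.of_comp (lift n m).left _

variable [ConnectedSpace A.left]

/-- The anti-affine part surjects onto the proper quotient. -/
theorem surjective_comp (hN : AlgGrp.IsNormalHom i)
    (hMmax : ∀ (M' : Over (Spec (CommRingCat.of k))) [GrpObj M'] [LocallyOfFiniteType M'.hom] [QuasiCompact M'.hom]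
      (j' : M' ⟶ G) [IsMonHom j'] [IsClosedImmersion j'.left],
      Function.Bijective (structRing M').hom → ∃ g : M' ⟶ M, g ≫ j = j') :
    Surjective (j ≫ q).left := by
  haveI : QuasiSeparated G.hom := AlgGrpBasic19.quasiSeparatedSpace
  obtain ⟨-, hlG, hqG, hbG⟩ := AntiAff20.exists_antiAffine_kernel G
  obtain ⟨gG, hmG⟩ := exists_kernel_grp G
  haveI := hlG; haveI := hqG; haveI := hmG
  haveI := isClosedImmersion_kernel G
  obtain ⟨e, he⟩ := hMmax _ (pullback.fst (toAff G) η[aff G]) hbG
  have hsub := subsingleton_aff A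
  haveI : Surjective ((Over.forget (Spec (CommRingCat.of k))).map η[aff A]) :=
    ⟨fun x => ⟨IsLocalRing.closedPoint k, @Subsingleton.elim (aff A).left hsub _ _⟩⟩
  haveI : Surjective (pullback.fst (toAff A) η[aff A]).left := MorphismProperty.of_isPullback
    ((IsPullback.of_hasPullback (toAff A) η[aff A]).map (Over.forget (Spec (CommRingCat.of k)))).flip ‹_›
  refine ⟨fun a => ?_⟩
  obtain ⟨x, rfl⟩ := (pullback.fst (toAff A) η[aff A]).left.surjective a
  obtain ⟨y, hy⟩ := range_kernel_le i hN q hq ⟨x, rfl⟩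
  refine ⟨e.left y, ?_⟩
  rw [← Scheme.Hom.comp_apply, ← Over.comp_left, ← Category.assoc, he, hy]

end

section

variable {G N A M H : Over (Spec (CommRingCat.of k))} [GrpObj G] [GrpObj N] [GrpObj A] [GrpObj M] [GrpObj H]
  [LocallyOfFiniteType G.hom] [QuasiCompact G.hom] [ConnectedSpace A.left] [IsProper A.hom]
  [LocallyOfFiniteType M.hom] [QuasiCompact M.hom]
  (i : N ⟶ G) [IsMonHom i] [IsClosedImmersion i.left] [IsAffine N.left]
  (q : G ⟶ A) [IsMonHom q] [Surjective q.left] [Flat q.left] (hq : AlgGrp.IsKernel i q)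
  (j : M ⟶ G) [IsMonHom j] [IsClosedImmersion j.left]
  (hM : Function.Bijective (structRing M).hom)
  (hMmax : ∀ (M' : Over (Spec (CommRingCat.of k))) [GrpObj M'] [LocallyOfFiniteType M'.hom] [QuasiCompact M'.hom]
    (j' : M' ⟶ G) [IsMonHom j'] [IsClosedImmersion j'.left],
    Function.Bijective (structRing M').hom → ∃ g : M' ⟶ M, g ≫ j = j')
  (h : H ⟶ G) [IsMonHom h] [IsClosedImmersion h.left]

include hq hM hMmax

/-- A subgroup surjecting onto the proper quotient contains the anti-affine part. -/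
theorem exists_factor_of_surjective (hs : Surjective (h ≫ q).left) : ∃ g : M ⟶ H, g ≫ h = j := by
  haveI : LocallyOfFiniteType H.hom := by rw [← Over.w h]; infer_instance
  haveI : QuasiCompact H.hom := by rw [← Over.w h]; infer_instance
  haveI : QuasiSeparated H.hom := AlgGrpBasic19.quasiSeparatedSpace
  haveI : QuasiSeparated M.hom := AlgGrpBasic19.quasiSeparatedSpace
  haveI : QuasiCompact (h ≫ q).left := AlgGrpBasic19.quasiCompact_left (h ≫ q)
  -- the image of `H` in the quotient
  obtain ⟨A', gA', ia, r, hia, hr, hfac, hiac, hker, hrqc, hrs⟩ := GrpGen20.exists_image (h ≫ q)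
  haveI := hia; haveI := hr; haveI := hiac; haveI := hrqc; haveI := hrs
  haveI : IsSchemeTheoreticallyDominant r.left := ⟨hker⟩
  haveI : IsProper A'.hom := by rw [← Over.w ia]; infer_instance
  haveI : Surjective ia.left := by
    haveI : Surjective (r.left ≫ ia.left) := by rw [← Over.comp_left, hfac]; exact hs
    exact Surjective.of_comp r.left ia.left
  haveI : ConnectedSpace A'.left := by
    exact (ia.left.isClosedEmbedding.toIsEmbedding.toHomeomorphOfSurjective ia.left.surjective).symm.surjective.connectedSpace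
      (ia.left.isClosedEmbedding.toIsEmbedding.toHomeomorphOfSurjective ia.left.surjective).symm.continuous
  obtain ⟨-, hrf⟩ := flat_of_schDominant r
  haveI := hrf
  haveI := isClosedImmersion_eta A'
  haveI : Mono η[A'] := Over.mono_of_mono_left _
  -- the anti-affine kernel of `H`
  obtain ⟨-, hlH, hqH, hbH⟩ := AntiAff20.exists_antiAffine_kernel H
  obtain ⟨gMH, hmMH⟩ := exists_kernel_grp H
  haveI := hlH; haveI := hqH; haveI := hmMH
  haveI := isClosedImmersion_kernel H
  let MH := pullback (toAff H) η[aff H]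
  let jH : MH ⟶ H := pullback.fst (toAff H) η[aff H]
  haveI : IsClosedImmersion (jH ≫ h).left := by rw [Over.comp_left]; infer_instance
  obtain ⟨kH, hkH⟩ := hMmax MH (jH ≫ h) hbH
  haveI : Mono j := Over.mono_of_mono_left j
  haveI : IsMonHom kH :=
    ⟨by rw [← cancel_mono j, Category.assoc, hkH, IsMonHom.one_hom, IsMonHom.one_hom],
     by rw [← cancel_mono j, Category.assoc, hkH, Category.assoc, IsMonHom.mul_hom (f := j),
          MonoidalCategory.tensorHom_comp_tensorHom_assoc, hkH, IsMonHom.mul_hom (f := jH ≫ h)]⟩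
  haveI : IsClosedImmersion kH.left := by
    haveI : IsClosedImmersion (kH.left ≫ j.left) := by rw [← Over.comp_left, hkH]; infer_instance
    exact IsClosedImmersion.of_comp _ j.left
  haveI : Mono kH := Over.mono_of_mono_left kH
  have hsMH : Surjective (jH ≫ r).left := by
    obtain ⟨gK, hmK⟩ := exists_kernel_of r
    haveI := hmK
    haveI := isClosedImmersion_pullback_fst r η[A']
    refine surjective_comp (pullback.fst r η[A']) r (isKernel_pullback r) jH (isNormalHom_kernel r) ?_
    intro M' _ _ _ j' _ _ hb'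
    haveI : QuasiSeparated M'.hom := AlgGrpBasic19.quasiSeparatedSpace
    exact exists_factor H hb' j'
  -- the anti-affine part is smooth and commutative
  haveI := AntiAff20.smooth_of_antiAffine M hM
  haveI : IsReduced M.left := AbRigid.isReduced_of_smooth_over_field M.hom
  haveI : IsCommMonObj M := (S3293.result k M hM).2
  -- the affine part of `M`
  haveI := isClosedImmersion_eta A
  haveI : Mono η[A] := Over.mono_of_mono_left _
  obtain ⟨gK, hmK⟩ := exists_kernel_of (j ≫ q)
  haveI := hmK
  let K := pullback (j ≫ q) η[A]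
  let κ : K ⟶ M := pullback.fst (j ≫ q) η[A]
  haveI : IsClosedImmersion κ.left := isClosedImmersion_pullback_fst (j ≫ q) η[A]
  haveI : Mono κ := Over.mono_of_mono_left κ
  haveI : IsAffine K.left := by
    have e : (κ ≫ j) ≫ q = toUnit K ≫ η[A] := by
      rw [Category.assoc, pullback.condition, toUnit_unique (pullback.snd _ _) (toUnit K)]
    have hnK : hq.lift (κ ≫ j) (toUnit K) e ≫ i = κ ≫ j := hq.lift_fst _ _ _
    haveI : IsClosedImmersion ((hq.lift (κ ≫ j) (toUnit K) e).left ≫ i.left) := by
      rw [← Over.comp_left, hnK, Over.comp_left]; infer_instance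
    haveI := IsClosedImmersion.of_comp (hq.lift (κ ≫ j) (toUnit K) e).left i.left
    exact isAffine_of_isAffineHom (hq.lift (κ ≫ j) (toUnit K) e).left
  haveI : LocallyOfFiniteType K.hom := by rw [← Over.w κ]; infer_instance
  haveI : QuasiCompact K.hom := by rw [← Over.w κ]; infer_instance
  -- its quotient by the part inside `H`
  obtain ⟨gKH, hmKH⟩ := exists_pullback_grp κ kH
  haveI := hmKH
  let KH := pullback κ kH
  let incl : KH ⟶ K := pullback.fst κ kH
  haveI : IsClosedImmersion incl.left := isClosedImmersion_pullback_fst κ kH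
  have hKnorm : AlgGrp.IsNormalHom incl := fun T g n => ⟨n, by
    rw [← cancel_mono κ, MonObj.mul_comp, MonObj.mul_comp, GrpObj.inv_comp, mul_comm (g ≫ κ), mul_inv_cancel_right]⟩
  obtain ⟨X, gX, a, ha, hXaff, -, -, -, hXk⟩ := S3278.result k K KH incl hKnorm
  haveI := ha; haveI := hXaff
  -- the product map
  let π : MH ⊗ K ⟶ M := (fst MH K ≫ kH) * (snd MH K ≫ κ)
  haveI hπmon : IsMonHom π := by
    have e : π = (kH ⊗ₘ κ) ≫ μ[M] := by
      simp only [π, Hom.mul_def, lift_fst_comp_snd_comp]
    rw [e]; infer_instance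
  haveI hπs : Surjective π.left := by
    haveI : Surjective (kH ≫ j ≫ q).left := by
      rw [← Category.assoc, hkH, Category.assoc, ← hfac, ← Category.assoc, Over.comp_left]
      haveI := hsMH
      infer_instance
    let g := pullback.snd (kH ≫ j ≫ q) (j ≫ q)
    let m := pullback.fst (kH ≫ j ≫ q) (j ≫ q)
    have h1 : (g * (m ≫ kH)⁻¹) ≫ j ≫ q = toUnit _ ≫ η[A] := by
      rw [MonObj.mul_comp, GrpObj.inv_comp, Category.assoc, pullback.condition, mul_inv_cancel, Hom.one_def]
    let n : pullback (kH ≫ j ≫ q) (j ≫ q) ⟶ K := pullback.lift (g * (m ≫ kH)⁻¹) (toUnit _) h1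
    have hn : n ≫ κ = g * (m ≫ kH)⁻¹ := pullback.lift_fst _ _ _
    have hfac' : lift m n ≫ π = g := by
      simp only [π, MonObj.comp_mul, lift_fst_assoc, lift_snd_assoc, hn]
      rw [mul_comm g, mul_inv_cancel_left]
    haveI : Surjective ((Over.forget (Spec (CommRingCat.of k))).map (kH ≫ j ≫ q)) := ‹_›
    haveI : Surjective g.left := MorphismProperty.of_isPullback
      ((IsPullback.of_hasPullback (kH ≫ j ≫ q) (j ≫ q)).map (Over.forget (Spec (CommRingCat.of k)))) ‹_›
    haveI : Surjective ((lift m n).left ≫ π.left) := by rw [← Over.comp_left, hfac']; infer_instance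
    exact Surjective.of_comp (lift m n).left _
  haveI : LocallyOfFiniteType (MH ⊗ K).hom :=
    inferInstanceAs (LocallyOfFiniteType (pullback.fst MH.hom K.hom ≫ MH.hom))
  haveI : QuasiCompact (MH ⊗ K).hom := inferInstanceAs (QuasiCompact (pullback.fst MH.hom K.hom ≫ MH.hom))
  haveI : Flat π.left := AbRigid.flat_of_surjective_of_isReduced _ _ π
  haveI : QuasiCompact π.left := AlgGrpBasic19.quasiCompact_left π
  have hdiff : ∀ {T : Over (Spec (CommRingCat.of k))} (x y : T ⟶ MH ⊗ K), x ≫ π = y ≫ π →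
      ((x ≫ fst MH K)⁻¹ * (y ≫ fst MH K)) ≫ kH = ((x ≫ snd MH K) * (y ≫ snd MH K)⁻¹) ≫ κ := by
    intro T x y hxy
    simp only [π, MonObj.comp_mul] at hxy
    simp only [MonObj.mul_comp, GrpObj.inv_comp, Category.assoc]
    rw [inv_mul_eq_iff_eq_mul, ← _root_.mul_assoc, hxy, mul_inv_cancel_right]
  have hXι : incl ≫ a = 1 := hXk.w.trans Hom.one_def.symm
  obtain ⟨c, hc⟩ := MTExt29.exists_desc π (snd MH K ≫ a) (fun {T} x y hxy => by
    let w : T ⟶ KH := pullback.lift _ _ (hdiff x y hxy).symm
    have hw : w ≫ incl = (x ≫ snd MH K) * (y ≫ snd MH K)⁻¹ := pullback.lift_fst _ _ _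
    have h2 : ((x ≫ snd MH K) * (y ≫ snd MH K)⁻¹) ≫ a = 1 := by
      rw [← hw, Category.assoc, hXι, MonObj.comp_one]
    rw [MonObj.mul_comp, GrpObj.inv_comp, mul_inv_eq_one, Category.assoc, Category.assoc] at h2
    exact h2)
  obtain ⟨w, hw⟩ := exists_const hM c
  have ha1 : a = 1 := by
    have h1 : lift (1 : K ⟶ MH) (𝟙 K) ≫ π = κ := by
      simp [π, MonObj.comp_mul]
    have h2 : κ ≫ c = a := by
      rw [← h1, Category.assoc, hc, lift_snd_assoc, Category.id_comp]
    have h3 : w = 1 := by
      have h4 : η[K] ≫ a = 1 := by rw [IsMonHom.one_hom, one_eq_one]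
      rw [← h2, hw, ← Category.assoc, ← Category.assoc, toUnit_unique ((η[K] ≫ κ) ≫ toUnit M) (𝟙 _), Category.id_comp] at h4
      exact h4
    rw [← h2, hw, h3, MonObj.comp_one, MonObj.comp_one]
  let s : K ⟶ KH := hXk.lift (𝟙 K) (toUnit K) (by rw [Category.id_comp, ha1, Hom.one_def])
  have hsι : s ≫ pullback.snd κ kH ≫ kH = κ := by
    rw [← pullback.condition, ← Category.assoc, hXk.lift_fst, Category.id_comp]
  let π' : MH ⊗ K ⟶ MH := fst MH K * (snd MH K ≫ s ≫ pullback.snd κ kH)
  have hπ' : π' ≫ kH = π := by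
    simp only [π', π, MonObj.mul_comp, Category.assoc, hsι]
  obtain ⟨t, ht⟩ := MTExt29.exists_desc π π' (fun {T} x y hxy => by
    rw [← cancel_mono kH, Category.assoc, Category.assoc, hπ']
    exact hxy)
  haveI := MTExt29.epi_of_cover π
  have htk : t ≫ kH = 𝟙 M := by
    rw [← cancel_epi π, ← Category.assoc, ht, hπ', Category.comp_id]
  refine ⟨t ≫ jH, ?_⟩
  rw [Category.assoc, ← hkH, ← Category.assoc, htk, Category.id_comp]

end

end Groth.Agent.AntiAffMin19
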