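import Groth.Agent.Lib.AntiAffMin19.Basic
import Groth.Agent.Lib.GrpGen20.DomSurj
import Groth.Agent.Lib.MTExt29.Comm
import Groth.Agent.S3278

/-!
# The anti-affine kernel and quotient morphisms
-/

universe u

set_option autoImplicit false
set_option linter.style.haveILetI false
set_option backward.isDefEq.respectTransparency false
set_option maxHeartbeats 800000

open CategoryTheory CategoryTheory.Limits MonoidalCategory CartesianMonoidalCategory MonObj AlgebraicGeometry
open Groth.Agent.AffGrp19

noncomputable section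

namespace Groth.Agent.AntiAffMin19

variable {k : Type u} [Field k]

theorem lft_aff (G : Over (Spec (CommRingCat.of k))) [GrpObj G] [LocallyOfFiniteType G.hom]
    [QuasiCompact G.hom] : LocallyOfFiniteType (aff G).hom := by
  obtain ⟨A, cA, hA, e, m, hm, -, hinj⟩ := AntiAff20.exists_hull G
  haveI := hm
  haveI := AntiAff20.finiteType_of_injective m hinj
  haveI hl : LocallyOfFiniteType (AntiAff20.HX (k := k) A).hom := by
    show LocallyOfFiniteType (Spec.map (CommRingCat.ofHom (algebraMap k A)))
    rw [HasRingHomProperty.Spec_iff (P := @LocallyOfFiniteType), CommRingCat.hom_ofHom, RingHom.finiteType_algebraMap]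
    infer_instance
  haveI : IsIso e.inv.left := ((Over.forget (Spec (CommRingCat.of k))).mapIso e).isIso_inv
  rw [← Over.w e.inv]
  infer_instance

variable {G N Q : Over (Spec (CommRingCat.of k))} [GrpObj G] [GrpObj N] [GrpObj Q]
  [LocallyOfFiniteType G.hom] [QuasiCompact G.hom]
  [LocallyOfFiniteType Q.hom] [QuasiCompact Q.hom]
  [QuasiSeparated G.hom] [QuasiSeparated Q.hom]

/-- The anti-affine kernel of the quotient is covered by the anti-affine kernel of the group. -/
theorem range_kernel_le (i : N ⟶ G) [IsMonHom i] [IsClosedImmersion i.left] (hN : AlgGrp.IsNormalHom i)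
    (q : G ⟶ Q) [IsMonHom q] [Surjective q.left] [Flat q.left] (hq : AlgGrp.IsKernel i q) :
    Set.range (pullback.fst (toAff Q) η[aff Q]).left ⊆
      Set.range (pullback.fst (toAff G) η[aff G] ≫ q).left := by
  haveI := lft_aff G
  haveI : QuasiCompact N.hom := by rw [← Over.w i]; infer_instance
  haveI : QuasiCompact (i ≫ toAff G).left := by
    haveI : QuasiCompact ((i ≫ toAff G).left ≫ (aff G).hom) := by rw [Over.w]; infer_instance
    exact QuasiCompact.of_comp _ (aff G).hom
  -- the image of the kernel in the affinization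
  obtain ⟨I, gI, ι', f', hι, hf', hfac, hιc, hker, hfqc, hfsurj⟩ := GrpGen20.exists_image (i ≫ toAff G)
  haveI := hι; haveI := hf'; haveI := hιc; haveI := hfqc; haveI := hfsurj
  haveI : Mono ι' := Over.mono_of_mono_left ι'
  haveI hfd : IsSchemeTheoreticallyDominant f'.left := ⟨hker⟩
  haveI hAd : IsSchemeTheoreticallyDominant (toAff G).left := by
    haveI : QuasiCompact (toAff G).left := (good_toAff G).qc
    haveI : IsAffine (aff G).left := inferInstance
    exact AntiAff20.schDominant_of_injective _ ((good_toAff G).bij ⊤).1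
  have hnorm : AlgGrp.IsNormalHom ι' := by
    let h : aff G ⊗ I ⟶ aff G := fst _ _ * (snd _ _ ≫ ι') * (fst (aff G) I)⁻¹
    obtain ⟨n', hn'⟩ := hN (G ⊗ N) (fst G N) (snd G N)
    let r : G ⊗ N ⟶ aff G ⊗ I := (toAff G ▷ N) ≫ (aff G ◁ f')
    have hr : IsSchemeTheoreticallyDominant r.left := by
      haveI : IsSchemeTheoreticallyDominant ((Over.forget (Spec (CommRingCat.of k))).map (toAff G)) := hAd
      haveI : IsSchemeTheoreticallyDominant ((Over.forget (Spec (CommRingCat.of k))).map f') := hfd
      haveI : QuasiCompact ((Over.forget (Spec (CommRingCat.of k))).map (toAff G)) := (good_toAff G).qc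
      haveI : QuasiCompact ((Over.forget (Spec (CommRingCat.of k))).map f') := hfqc
      haveI : Flat ((Over.forget (Spec (CommRingCat.of k))).map (fst (aff G) N)) := AbRigid.flat_fst_left (aff G) N
      haveI : Flat ((Over.forget (Spec (CommRingCat.of k))).map (snd (aff G) I)) := AbRigid.flat_snd_left (aff G) I
      haveI : IsSchemeTheoreticallyDominant (toAff G ▷ N).left :=
        IsSchemeTheoreticallyDominant.of_isPullback ((AbRigid.isPullback_whiskerRight (toAff G) N).map (Over.forget (Spec (CommRingCat.of k))))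
      haveI : IsSchemeTheoreticallyDominant (aff G ◁ f').left :=
        IsSchemeTheoreticallyDominant.of_isPullback ((AbRigid.isPullback_whiskerLeft f' (aff G)).map (Over.forget (Spec (CommRingCat.of k))))
      show IsSchemeTheoreticallyDominant ((toAff G ▷ N).left ≫ (aff G ◁ f').left)
      infer_instance
    have hs : (n' ≫ f') ≫ ι' = r ≫ h := by
      have e1 : r ≫ fst (aff G) I = fst G N ≫ toAff G := by simp [r]
      have e2 : r ≫ snd (aff G) I = snd G N ≫ f' := by simp [r]
      simp only [h, MonObj.comp_mul, GrpObj.comp_inv, e1, reassoc_of% e2, hfac, Category.assoc]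
      rw [← Category.assoc (snd G N) i (toAff G), ← GrpObj.inv_comp, ← MonObj.mul_comp, ← MonObj.mul_comp, hn',
        Category.assoc]
    have hle : ι'.left.ker ≤ h.left.ker := by
      calc ι'.left.ker ≤ ((n' ≫ f').left ≫ ι'.left).ker := Scheme.Hom.le_ker_comp _ _
        _ = (r.left ≫ h.left).ker := by rw [← Over.comp_left, hs, Over.comp_left]
        _ = h.left.ker := by rw [Scheme.Hom.ker_comp, r.left.ker_eq_bot, Scheme.IdealSheafData.map_bot]
    let t : aff G ⊗ I ⟶ I := Over.homMk (IsClosedImmersion.lift ι'.left h.left hle) (by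
      show _ = (aff G ⊗ I).hom
      rw [← Over.w ι', IsClosedImmersion.lift_fac_assoc, Over.w])
    have ht : t ≫ ι' = h := Over.OverMorphism.ext (IsClosedImmersion.lift_fac _ _ _)
    intro T g n
    refine ⟨lift g n ≫ t, ?_⟩
    rw [Category.assoc, ht]
    simp [h, MonObj.comp_mul, GrpObj.comp_inv]
  obtain ⟨A, gA, a, ha, hAaff, -, -, -, hIk⟩ := S3278.result k (aff G) I ι' hnorm
  haveI := ha; haveI := hAaff
  have hι1 : ι' ≫ a = 1 := hIk.w.trans Hom.one_def.symm
  -- descend to the quotient
  haveI : QuasiCompact q.left := by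
    haveI : QuasiCompact (q.left ≫ Q.hom) := by rw [Over.w]; infer_instance
    exact QuasiCompact.of_comp q.left Q.hom
  obtain ⟨c, hc⟩ := MTExt29.exists_desc q (toAff G ≫ a) (fun {X} x y hxy => by
    have h1 : (x⁻¹ * y) ≫ q = toUnit X ≫ η[Q] := by
      rw [MonObj.mul_comp, GrpObj.inv_comp, hxy, inv_mul_cancel, Hom.one_def]
    let n := hq.lift (x⁻¹ * y) (toUnit X) h1
    have hn : n ≫ i = x⁻¹ * y := hq.lift_fst _ _ _
    have h2 : (x⁻¹ * y) ≫ toAff G ≫ a = 1 := by
      rw [← hn, Category.assoc, ← reassoc_of% hfac, hι1, MonObj.comp_one, MonObj.comp_one]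
    rw [MonObj.mul_comp, GrpObj.inv_comp] at h2
    exact (inv_mul_eq_one.mp h2))
  haveI : QuasiSeparated Q.hom := inferInstance
  obtain ⟨gNQ, hl, hqcN, hbij⟩ := AntiAff20.exists_antiAffine_kernel Q
  haveI := hl; haveI := hqcN
  haveI : QuasiSeparated (pullback (toAff Q) η[aff Q]).hom := by
    haveI := isClosedImmersion_kernel Q
    rw [← Over.w (pullback.fst (toAff Q) η[aff Q])]
    infer_instance
  set iQ := pullback.fst (toAff Q) η[aff Q]
  obtain ⟨w, hw⟩ := exists_const hbij (iQ ≫ c)
  have hiQc : iQ ≫ c = 1 := by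
    let e : 𝟙_ (Over (Spec (CommRingCat.of k))) ⟶ pullback (toAff Q) η[aff Q] :=
      pullback.lift η[Q] (𝟙 _) (by rw [IsMonHom.one_hom, Category.id_comp])
    have h1 : e ≫ iQ = η[Q] := pullback.lift_fst _ _ _
    have h2 : e ≫ iQ ≫ c = 1 := by
      rw [reassoc_of% h1, ← IsMonHom.one_hom (f := q), Category.assoc, hc, ← Category.assoc,
        IsMonHom.one_hom, IsMonHom.one_hom, Hom.one_def, toUnit_unique (toUnit _) (𝟙 _), Category.id_comp]
    rw [hw] at h2
    rw [← Category.assoc, toUnit_unique (e ≫ toUnit _) (𝟙 _), Category.id_comp] at h2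
    rw [hw, h2, MonObj.comp_one]
  -- a cover of the kernel of the quotient
  let P := pullback iQ q
  have hP : ((pullback.snd iQ q) ≫ toAff G) ≫ a = 1 := by
    rw [Category.assoc, ← hc, ← Category.assoc, ← pullback.condition, Category.assoc, hiQc, MonObj.comp_one]
  let u : P ⟶ I := hIk.lift (pullback.snd iQ q ≫ toAff G) (toUnit P) (hP.trans Hom.one_def)
  have hu : u ≫ ι' = pullback.snd iQ q ≫ toAff G := hIk.lift_fst _ _ _
  let P' := pullback u f'
  let g' : P' ⟶ G := (pullback.fst u f' ≫ pullback.snd iQ q) * (pullback.snd u f' ≫ i)⁻¹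
  have hg' : g' ≫ toAff G = 1 := by
    simp only [g', MonObj.mul_comp, GrpObj.inv_comp, Category.assoc, ← hu, ← hfac]
    rw [← Category.assoc (pullback.fst u f') u, pullback.condition, Category.assoc, mul_inv_cancel]
  let h := pullback.lift g' (toUnit P') (hg'.trans Hom.one_def) (f := toAff G) (g := η[aff G])
  have hh : h ≫ pullback.fst (toAff G) η[aff G] ≫ q = (pullback.fst u f' ≫ pullback.fst iQ q) ≫ iQ := by
    rw [← Category.assoc, pullback.lift_fst]
    simp only [g', MonObj.mul_comp, GrpObj.inv_comp, Category.assoc, ← pullback.condition]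
    rw [show i ≫ q = 1 from hq.w.trans Hom.one_def.symm, MonObj.comp_one, inv_one, _root_.mul_one]
  haveI : Surjective ((Over.forget (Spec (CommRingCat.of k))).map q) := ‹Surjective q.left›
  haveI : Surjective ((Over.forget (Spec (CommRingCat.of k))).map f') := hfsurj
  haveI : Surjective (pullback.fst iQ q).left :=
    MorphismProperty.of_isPullback ((IsPullback.of_hasPullback iQ q).map (Over.forget (Spec (CommRingCat.of k)))).flip ‹_›
  haveI : Surjective (pullback.fst u f').left :=
    MorphismProperty.of_isPullback ((IsPullback.of_hasPullback u f').map (Over.forget (Spec (CommRingCat.of k)))).flip ‹_›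
  rintro _ ⟨x, rfl⟩
  obtain ⟨p, hp⟩ := (pullback.fst iQ q).left.surjective x
  obtain ⟨p', hp'⟩ := (pullback.fst u f').left.surjective p
  refine ⟨h.left p', ?_⟩
  rw [← Scheme.Hom.comp_apply, ← Over.comp_left, hh, Over.comp_left, Over.comp_left, Scheme.Hom.comp_apply,
    Scheme.Hom.comp_apply, hp', hp]

end Groth.Agent.AntiAffMin19
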